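import Cfsg.Agent.Lib.J4Rep.Eval

/-!
Kernel check of one relator in the matrices.
-/

set_option autoImplicit false

namespace CfsgLib.J4Rep

theorem relOK_11 : relOK 11 = true := by decide +kernel

end CfsgLib.J4Rep
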