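import Cfsg.Prelude.Def_Spor_J4
import Cfsg.Prelude.Def_Sporadic
import Cfsg.Agent.Lib.J4Rep.Rel0
import Cfsg.Agent.Lib.J4Rep.Rel1
import Cfsg.Agent.Lib.J4Rep.Rel2
import Cfsg.Agent.Lib.J4Rep.Rel3
import Cfsg.Agent.Lib.J4Rep.Rel4
import Cfsg.Agent.Lib.J4Rep.Rel5
import Cfsg.Agent.Lib.J4Rep.Rel6
import Cfsg.Agent.Lib.J4Rep.Rel7
import Cfsg.Agent.Lib.J4Rep.Rel8
import Cfsg.Agent.Lib.J4Rep.Rel9
import Cfsg.Agent.Lib.J4Rep.Rel10
import Cfsg.Agent.Lib.J4Rep.Rel11

/-!
A representation of degree 112 over the field with two elements of the presented fourth Janko group.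
-/

set_option autoImplicit false

namespace CfsgLib.J4Rep

open CfsgLib.Fi22Mult CfsgLib.CosetEnum Cfsg.Spor

/-- the general linear group -/
abbrev U112 : Type := GL (Fin 112) (ZMod 2)

theorem mat_data : (matX.length = 112 ∧ matY.length = 112 ∧ matYinv.length = 112 ∧ matT.length = 112) ∧
    eqB (mulB matX matX) (oneB 112) = true ∧ eqB (mulB matY matYinv) (oneB 112) = true ∧
    eqB (mulB matYinv matY) (oneB 112) = true ∧ eqB (mulB matT matT) (oneB 112) = true := by
  decide +kernel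

/-- x -/
def uX : U112 where
  val := toMat 112 matX
  inv := toMat 112 matX
  val_inv := by rw [← toMat_mulB mat_data.1.1 mat_data.1.1, eqB_eq mat_data.2.1, toMat_oneB]
  inv_val := by rw [← toMat_mulB mat_data.1.1 mat_data.1.1, eqB_eq mat_data.2.1, toMat_oneB]

/-- y -/
def uY : U112 where
  val := toMat 112 matY
  inv := toMat 112 matYinv
  val_inv := by rw [← toMat_mulB mat_data.1.2.1 mat_data.1.2.2.1, eqB_eq mat_data.2.2.1, toMat_oneB]
  inv_val := by rw [← toMat_mulB mat_data.1.2.2.1 mat_data.1.2.1, eqB_eq mat_data.2.2.2.1, toMat_oneB]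

/-- t -/
def uT : U112 where
  val := toMat 112 matT
  inv := toMat 112 matT
  val_inv := by rw [← toMat_mulB mat_data.1.2.2.2 mat_data.1.2.2.2, eqB_eq mat_data.2.2.2.2, toMat_oneB]
  inv_val := by rw [← toMat_mulB mat_data.1.2.2.2 mat_data.1.2.2.2, eqB_eq mat_data.2.2.2.2, toMat_oneB]

/-- the images of the generators -/
def fGen : J4.Gen → U112
  | .x => uX
  | .y => uY
  | .t => uT

theorem fGen_t : fGen .t = uT := by simp only [fGen]

/-- the six letters -/
def free6 : ℕ → FreeGroup J4.Gen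
  | 0 => J4.x
  | 1 => J4.y
  | 2 => J4.y⁻¹
  | 3 => J4.t
  | 4 => J4.x⁻¹
  | 5 => J4.t⁻¹
  | _ => 1

theorem free6_six : free6 6 = 1 := by simp only [free6]

theorem letMat_spec (g : ℕ) : (letMat g).length = 112 ∧
    (FreeGroup.lift fGen (free6 g) : U112).val = toMat 112 (letMat g) := by
  obtain ⟨h1, h2, h3, h4⟩ := mat_data.1
  match g with
  | 0 => exact ⟨h1, by simp [free6, letMat, fGen, J4.x, uX]⟩
  | 1 => exact ⟨h2, by simp [free6, letMat, fGen, J4.y, uY]⟩
  | 2 => exact ⟨h3, by simp [free6, letMat, fGen, J4.y, uY]⟩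
  | 3 => exact ⟨h4, by simp [free6, letMat, fGen, J4.t, uT]⟩
  | 4 => exact ⟨h1, by simp [free6, letMat, fGen, J4.x, uX]⟩
  | 5 => exact ⟨h4, by simp [free6, letMat, fGen, J4.t, uT]⟩
  | n + 6 => exact ⟨oneB_length _, by simp [free6, letMat, toMat_oneB]⟩

theorem wordMat_spec : ∀ w : List ℕ, (wordMat w).length = 112 ∧
    (FreeGroup.lift fGen (prodW free6 w) : U112).val = toMat 112 (wordMat w)
  | [] => ⟨oneB_length _, by simp [wordMat, toMat_oneB]⟩
  | g :: w => by
    obtain ⟨h1, h2⟩ := wordMat_spec w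
    obtain ⟨h3, h4⟩ := letMat_spec g
    have e : wordMat (g :: w) = mulB (letMat g) (wordMat w) := rfl
    refine ⟨by rw [e, mulB_length, h3], ?_⟩
    rw [prodW_cons, map_mul, Units.val_mul, h4, h2, e, toMat_mulB h3 h1]

theorem powMat_spec {A : List ℕ} {u : U112} (hA : A.length = 112) (hu : u.val = toMat 112 A) :
    ∀ n, (powMat A n).length = 112 ∧ (u ^ n).val = toMat 112 (powMat A n)
  | 0 => ⟨oneB_length _, by simp [powMat, toMat_oneB]⟩
  | n + 1 => by
    obtain ⟨h1, h2⟩ := powMat_spec hA hu n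
    have e : powMat A (n + 1) = forceW (powMat A n) fun M' => mulB A M' := rfl
    rw [e, forceW_eq]
    refine ⟨by rw [mulB_length, hA], ?_⟩
    rw [pow_succ', Units.val_mul, h2, hu, toMat_mulB hA h1]

/-- the element of a product of powers -/
def facFree (r : List (List ℕ × ℕ)) : FreeGroup J4.Gen :=
  (r.map fun f => prodW free6 f.1 ^ f.2).prod

theorem facMat_spec : ∀ r : List (List ℕ × ℕ), (facMat r).length = 112 ∧
    (FreeGroup.lift fGen (facFree r) : U112).val = toMat 112 (facMat r)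
  | [] => ⟨oneB_length _, by simp [facMat, facFree, toMat_oneB]⟩
  | f :: r => by
    obtain ⟨h1, h2⟩ := facMat_spec r
    obtain ⟨h3, h4⟩ := wordMat_spec f.1
    have e : facMat (f :: r) =
        mulB (forceW (wordMat f.1) fun A => powMat A f.2) (facMat r) := rfl
    rw [forceW_eq] at e
    obtain ⟨h5, h6⟩ := powMat_spec h3 h4 f.2
    refine ⟨by rw [e, mulB_length, h5], ?_⟩
    have ef : facFree (f :: r) = prodW free6 f.1 ^ f.2 * facFree r := rfl
    rw [ef, map_mul, map_pow, Units.val_mul, h6, h2, e, toMat_mulB h5 h1]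

theorem facFree_eq : relFactors.map facFree = J4.extra := by decide +kernel

theorem relators_one :
    ∀ r ∈ coxRelators J4.edges ∪ {r | r ∈ J4.extra}, FreeGroup.lift fGen r = 1 := by
  intro r hr
  rcases hr with hr | hr
  · obtain ⟨i, hi, -⟩ := hr
    simp [coxNodes, J4.edges] at hi
  · obtain ⟨f, hf, rfl⟩ := List.mem_map.1 (facFree_eq ▸ (hr : r ∈ J4.extra))
    obtain ⟨k, hk, rfl⟩ := List.getElem_of_mem hf
    have hlen : relFactors.length = 12 := by decide +kernel
    have h : relOK k = true := by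
      rw [hlen] at hk
      interval_cases k
      exacts [relOK_0, relOK_1, relOK_2, relOK_3, relOK_4, relOK_5, relOK_6, relOK_7, relOK_8,
        relOK_9, relOK_10, relOK_11]
    apply Units.ext
    rw [(facMat_spec _).2, Units.val_one, ← toMat_oneB 112]
    unfold relOK at h
    rw [List.getD_eq_getElem _ _ hk] at h
    rw [eqB_eq h]

/-- the representation -/
noncomputable def rho : J4 →* U112 :=
  PresentedGroup.toGroup (f := fGen) (rels := coxRelators J4.edges ∪ {r | r ∈ J4.extra}) relators_one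

theorem rho_of (g : J4.Gen) : rho (PresentedGroup.of g) = fGen g :=
  PresentedGroup.toGroup.of relators_one

theorem uX_ne_one : uX ≠ 1 := by
  intro h
  have h0 : (uX : U112).val 0 3 = (1 : U112).val 0 3 := by rw [h]
  revert h0
  show toMat 112 matX 0 3 = (1 : Matrix (Fin 112) (Fin 112) (ZMod 2)) 0 3 → False
  decide +kernel

end CfsgLib.J4Rep
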