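import Cfsg.Agent.Lib.J4Rep.Mat
import Cfsg.Agent.Lib.J4Rep.Data

/-!
Evaluation of words and relators in the three matrices.
-/

set_option autoImplicit false

namespace CfsgLib.J4Rep

open CfsgLib.Fi22Mult CfsgLib.CosetEnum

/-- the matrix of a letter: `x, y, y⁻¹, t, x⁻¹, t⁻¹` -/
def letMat : ℕ → List ℕ
  | 0 => matX
  | 1 => matY
  | 2 => matYinv
  | 3 => matT
  | 4 => matX
  | 5 => matT
  | _ => oneB 112

theorem letMat_five : letMat 5 = matT ∧ letMat 6 = oneB 112 := by constructor <;> simp only [letMat]

/-- the matrix of a word -/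
noncomputable def wordMat (w : List ℕ) : List ℕ :=
  w.foldr (fun g M => mulB (letMat g) M) (oneB 112)

/-- a power -/
noncomputable def powMat (A : List ℕ) : ℕ → List ℕ :=
  Nat.rec (oneB 112) fun _ M => forceW M fun M' => mulB A M'

/-- the matrix of a product of powers -/
noncomputable def facMat (r : List (List ℕ × ℕ)) : List ℕ :=
  r.foldr (fun f M => mulB (forceW (wordMat f.1) fun A => powMat A f.2) M) (oneB 112)

/-- a relator evaluates to the unit matrix -/
noncomputable def relOK (k : ℕ) : Bool := eqB (facMat (relFactors.getD k [])) (oneB 112)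

end CfsgLib.J4Rep
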