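import Cfsg.Agent.Lib.Fi22Mult.BitMat

/-!
Lists of rows as matrices over the field with two elements.
-/

set_option autoImplicit false

namespace CfsgLib.J4Rep

open CfsgLib.Fi22Mult

/-- the value of a bit -/
def bitV (x j : ℕ) : ZMod 2 := if x.testBit j then 1 else 0

theorem bitV_xor (a b j : ℕ) : bitV (a ^^^ b) j = bitV a j + bitV b j := by
  unfold bitV
  rw [Nat.testBit_xor]
  cases a.testBit j <;> cases b.testBit j <;> decide

theorem bitV_zero (j : ℕ) : bitV 0 j = 0 := by simp [bitV]

/-- the matrix of a list of rows -/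
def toMat (n : ℕ) (A : List ℕ) : Matrix (Fin n) (Fin n) (ZMod 2) :=
  fun i j => bitV (A.getD i.val 0) j.val

theorem bitV_vmul : ∀ (A : List ℕ) (x j : ℕ),
    bitV (vmul x A) j = ∑ i ∈ Finset.range A.length, bitV x i * bitV (A.getD i 0) j
  | [], x, j => by simp [vmul_nil, bitV_zero]
  | b :: A, x, j => by
    rw [vmul_cons, bitV_xor, bitV_vmul A, List.length_cons, Finset.sum_range_succ', add_comm]
    congr 1
    · refine Finset.sum_congr rfl fun i _ => ?_
      rw [List.getD_cons_succ]
      congr 1
      unfold bitV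
      rw [Nat.testBit_succ]
    · rw [List.getD_cons_zero]
      unfold bitV
      rw [Nat.testBit_zero]
      by_cases h : x % 2 = 1 <;> simp [h]

theorem toMat_mulB {n : ℕ} {A B : List ℕ} (hA : A.length = n) (hB : B.length = n) :
    toMat n (mulB A B) = toMat n A * toMat n B := by
  ext i j
  rw [Matrix.mul_apply, mulB_eq]
  simp only [toMat]
  have hi : i.val < A.length := hA ▸ i.2
  rw [List.getD_eq_getElem _ _ (by rw [List.length_map]; exact hi), List.getElem_map,
    bitV_vmul, hB, ← List.getD_eq_getElem _ 0 hi]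
  exact (Fin.sum_univ_eq_sum_range (fun k => bitV (A.getD i 0) k * bitV (B.getD k 0) j) n).symm

theorem oneB_length : ∀ n : ℕ, (oneB n).length = n
  | 0 => rfl
  | n + 1 => by simp [oneB, oneB_length n]

theorem oneB_getD : ∀ (n i : ℕ), i < n → (oneB n).getD i 0 = 2 ^ i
  | 0, i, h => by omega
  | n + 1, 0, _ => rfl
  | n + 1, i + 1, h => by
    rw [oneB, List.getD_cons_succ, List.getD_eq_getElem _ _ (by simp [oneB_length]; omega),
      List.getElem_map, ← List.getD_eq_getElem _ 0 (by rw [oneB_length]; omega),
      oneB_getD n i (by omega), pow_succ, mul_comm]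

theorem toMat_oneB (n : ℕ) : toMat n (oneB n) = 1 := by
  ext i j
  simp only [toMat, bitV, oneB_getD n i i.2, Nat.testBit_two_pow, Matrix.one_apply, Fin.ext_iff,
    decide_eq_true_eq]

theorem mulB_length (A B : List ℕ) : (mulB A B).length = A.length := by
  rw [mulB_eq, List.length_map]

end CfsgLib.J4Rep
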